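import Cfsg.Agent.H295.T6.SoThree
import Cfsg.Agent.H140.TL.Levi
import Cfsg.Agent.H140.TL.Seven
import Cfsg.Agent.H140.TC.Fam
import Cfsg.Agent.H777.T6.Defs

/-!
# S2464, `Ω_9(q)`, `q` a power of a prime `p ≥ 5`

`t6_omega_nine` : `x = y = (X₃, J)` in the Levi subgroup `GL_3 × SO_3`, `X₃` irreducible of order prime to `6`,
`J` regular unipotent (of order `p`).
-/

set_option autoImplicit false
set_option linter.unusedSectionVars false
set_option linter.unusedSimpArgs false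
set_option linter.unusedVariables false

namespace Cfsg.Agent.H295.T6

open QuadraticMap Matrix Polynomial Module Cfsg.Agent.LieClassical.OrthCore Cfsg.Agent.LieClassical.OrthTrans
  Cfsg.Agent.LieClassical.OrthFinite Cfsg.Agent.LieClassical.OrthForms Cfsg.Agent.H140.OreO Cfsg.Agent.H126.PwO Cfsg.Agent.H140.TC
  Cfsg.Agent.H141.SpinFacts Cfsg.Agent.H160.QSpin
open Cfsg.Agent.H434.Corn (MaxTS)

variable {F V : Type*} [Field F] [AddCommGroup V] [Module F V] {Q : QuadraticForm F V}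

/-- two classes of exponent prime to `6` -/
def Two6 (Q : QuadraticForm F V) : Prop :=
  ∃ N : ℕ, N.Coprime 6 ∧ ∃ x₀ ∈ Om Q, ∃ y₀ ∈ Om Q, x₀ ^ N = 1 ∧ y₀ ^ N = 1 ∧ TwoOf Q x₀ y₀

theorem t6_of_two6 {ι : Type} [Fintype ι] [DecidableEq ι] {F : Type*} [Field F] (Q : QuadraticForm F (ι → F))
    (h : Two6 Q) : H777.T6.T6 (Cfsg.POmega F ⇑Q) := by
  obtain ⟨N, hN, x₀, hx₀, y₀, hy₀, hxN, hyN, h⟩ := h
  have key : ∀ (z : (ι → F) ≃ₗ[F] (ι → F)) (hz : z ∈ Om Q), z ^ N = 1 →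
      Nat.Coprime (orderOf (QuotientGroup.mk ((omegaEquiv Q).symm ⟨z, hz⟩) : Cfsg.POmega F ⇑Q)) 6 := by
    intro z hz hzN
    refine Nat.Coprime.coprime_dvd_left (orderOf_dvd_of_pow_eq_one ?_) hN
    have h1 : (⟨z, hz⟩ : Om Q) ^ N = 1 := Subtype.ext hzN
    have h2 : ((omegaEquiv Q).symm ⟨z, hz⟩) ^ N = 1 := by rw [← map_pow, h1, map_one]
    have h3 : (QuotientGroup.mk ((omegaEquiv Q).symm ⟨z, hz⟩) : Cfsg.POmega F ⇑Q) ^ N =
        QuotientGroup.mk (((omegaEquiv Q).symm ⟨z, hz⟩) ^ N) := rfl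
    rw [h3, h2]
    rfl
  refine ⟨QuotientGroup.mk ((omegaEquiv Q).symm ⟨x₀, hx₀⟩), QuotientGroup.mk ((omegaEquiv Q).symm ⟨y₀, hy₀⟩),
    key x₀ hx₀ hxN, key y₀ hy₀ hyN, fun g hg => ?_⟩
  obtain ⟨g, rfl⟩ := QuotientGroup.mk_surjective g
  have hs : ∀ c : F, ∃ v, (omegaEquiv Q g : (ι → F) ≃ₗ[F] (ι → F)) v ≠ c • v := by
    by_contra hs
    push Not at hs
    obtain ⟨c, hc⟩ := hs
    apply hg
    have hcen : g ∈ Subgroup.center (Cfsg.Omega F ⇑Q) := by
      rw [Subgroup.mem_center_iff]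
      intro k
      apply (omegaEquiv Q).injective
      rw [map_mul, map_mul]
      apply Subtype.ext
      apply LinearEquiv.ext
      intro v
      show (omegaEquiv Q k : (ι → F) ≃ₗ[F] (ι → F)) ((omegaEquiv Q g : (ι → F) ≃ₗ[F] (ι → F)) v) =
        (omegaEquiv Q g : (ι → F) ≃ₗ[F] (ι → F)) ((omegaEquiv Q k : (ι → F) ≃ₗ[F] (ι → F)) v)
      rw [hc, hc, map_smul]
    exact (QuotientGroup.eq_one_iff g).2 hcen
  obtain ⟨u, hu, v, hv, e⟩ := h _ (omegaEquiv Q g).2 hs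
  refine ⟨QuotientGroup.mk ((omegaEquiv Q).symm ⟨u, hu⟩), QuotientGroup.mk ((omegaEquiv Q).symm ⟨v, hv⟩), ?_⟩
  have e2 : g = ((omegaEquiv Q).symm ⟨u, hu⟩ * (omegaEquiv Q).symm ⟨x₀, hx₀⟩ * ((omegaEquiv Q).symm ⟨u, hu⟩)⁻¹) *
      ((omegaEquiv Q).symm ⟨v, hv⟩ * (omegaEquiv Q).symm ⟨y₀, hy₀⟩ * ((omegaEquiv Q).symm ⟨v, hv⟩)⁻¹) := by
    apply (omegaEquiv Q).injective
    simp only [map_mul, map_inv, MulEquiv.apply_symm_apply]
    exact Subtype.ext e
  conv_lhs => rw [e2]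
  rfl

theorem rev_eval_one' {f : F[X]} (h : f.eval 1 ≠ 0) : f.reverse.eval 1 ≠ 0 := by
  have : Invertible (1 : F) := invertibleOne
  have h3 := eval₂_reverse_mul_pow (RingHom.id F) (1 : F) f
  rw [invOf_one, one_pow, mul_one] at h3
  change eval₂ (RingHom.id F) 1 f.reverse ≠ 0
  rw [h3]
  exact h

/-- no common factors: irreducible cubic and unipotent -/
theorem cop_unip {W : Type*} [AddCommGroup W] [Module F W] {n : ℕ} {X₀ : GL (Fin n) F} {J : W ≃ₗ[F] W}
    (hJ : ((J : Module.End F W) - 1) ^ 3 = 0) (hX : (X₀ : Matrix (Fin n) (Fin n) F).charpoly.eval 1 ≠ 0)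
    (hc : IsCoprime (X₀ : Matrix (Fin n) (Fin n) F).charpoly (X₀ : Matrix (Fin n) (Fin n) F).charpoly.reverse) :
    Cop X₀ J := by
  have h0 : aeval (J : Module.End F W) ((X - C 1 : F[X]) ^ 3) = 0 := by
    rw [map_pow, map_sub, aeval_X, aeval_C, map_one, hJ]
  have key : ∀ p : F[X], p.eval 1 ≠ 0 → Un (J : Module.End F W) p := by
    intro p hp
    refine un_of_coprime h0 (IsCoprime.pow_right ?_)
    have h3 : IsCoprime (X - C 1 : F[X]) p := by
      rw [(irreducible_X_sub_C (1 : F)).coprime_iff_not_dvd, dvd_iff_isRoot]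
      exact hp
    exact h3.symm
  exact cop_of_charpoly (key _ hX) (key _ (rev_eval_one' hX)) hc

/-- **the middle part**: the orthogonal space of dimension three -/
theorem exists_mid {W : Type*} [AddCommGroup W] [Module F W] [Finite F] [FiniteDimensional F W] [Finite W]
    {q : QuadraticForm F W} (h2 : (2 : F) ≠ 0) (hq : Nondeg q) (hd : finrank F W = 3) {e f : W}
    (e0 : q e = 0) (f0 : q f = 0) (ef : polar q e f = 1) {p : ℕ} [CharP F p] [Fact p.Prime] (hp : 3 ≤ p) :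
    ∃ J ∈ O q, ((J : Module.End F W) - 1) ^ 3 = 0 ∧ J ^ p = 1 ∧
      ∀ z ∈ Om q, z ≠ 1 → ∃ a ∈ O q, ∃ b ∈ O q, z = (a * J * a⁻¹) * (b * J * b⁻¹) := by
  obtain ⟨v, h⟩ := exists_b3 h2 hq hd e0 f0 ef
  have hvf : q (v + f) ≠ 0 := by
    have hvf0 : polar q v f = 0 := by rw [polar_comm]; exact h.fv
    rw [Q_add, h.f0, hvf0, add_zero, add_zero]
    exact h.v0
  refine ⟨refl q (v + f) hvf * refl q v h.v0, (O q).mul_mem (refl_mem_O hvf) (refl_mem_O h.v0), h.unip hvf,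
    h.unip_pow hvf hp, fun z hz hz1 => ?_⟩
  exact so3_factor h h2 hq hd hvf (Om_le hz) (det_eq_one hz) (hom_eq_one (spin q) hz (Om_le hz)) hz1

/-- the first three vectors of a frame -/
theorem frame_three {w w' : Fin 4 → V} (hf : Frame Q w w') :
    Frame Q (fun i : Fin 3 => w i.castSucc) (fun i : Fin 3 => w' i.castSucc) where
  sl := fun i => hf.sl _
  sr := fun i => hf.sr _
  ll := fun i j => hf.ll _ _
  rr := fun i j => hf.rr _ _
  lr := fun i j => by
    rw [hf.lr]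
    simp [Fin.castSucc_inj]

theorem two6_nine [Finite F] [FiniteDimensional F V] (hQ : Nondeg Q) {p : ℕ} [CharP F p] (hp : 5 ≤ p)
    (hd : finrank F V = 9) (hW : ∀ W, MaxTS Q W → finrank F W = 4) : Two6 Q := by
  have : Fintype F := Fintype.ofFinite F
  have hpp : p.Prime := (CharP.char_is_prime_or_zero F p).resolve_right (by omega)
  have : Fact p.Prime := ⟨hpp⟩
  have h2 : (2 : F) ≠ 0 := by
    intro h
    have h1 := (CharP.cast_eq_zero_iff F p 2).1 (by exact_mod_cast h)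
    have := Nat.le_of_dvd (by norm_num) h1
    omega
  have hcard : p ≤ Nat.card F := by
    have h1 : p ∣ Nat.card F := by
      rw [Nat.card_eq_fintype_card]
      exact (CharP.cast_eq_zero_iff F p _).1 (Nat.cast_card_eq_zero F)
    exact Nat.le_of_dvd Nat.card_pos h1
  by_cases hns : ∃ g ∈ Om Q, ∀ c : F, ∃ v, g v ≠ c • v
  swap
  · exact ⟨1, by norm_num, 1, one_mem _, 1, one_mem _, one_pow _, one_pow _,
      fun g hg hn => absurd ⟨g, hg, hn⟩ hns⟩
  obtain ⟨g, hg, hns⟩ := hns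
  obtain ⟨w, w', hfw, -⟩ := nsCorner hQ hg hns (by norm_num) hW
  have hf := frame_three hfw
  set e : Fin 3 → V := fun i => w i.castSucc with he
  set e' : Fin 3 → V := fun i => w' i.castSucc with he'
  have hfin : Finite V := Module.finite_of_finite F
  have hnd := hf.nondeg_res hQ
  have hd3 : finrank F (perp Q e e') = 3 := by
    have := hf.finrank_perp
    omega
  have hfinp : Finite (perp Q e e') := inferInstance
  have hne : ∀ i : Fin 3, i.castSucc ≠ Fin.last 3 := fun i => (Fin.castSucc_lt_last i).ne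
  have hw4 : w (Fin.last 3) ∈ perp Q e e' := fun i => by
    refine ⟨hfw.ll _ _, ?_⟩
    rw [polar_comm, he', hfw.lr, if_neg (hne i).symm]
  have hw4' : w' (Fin.last 3) ∈ perp Q e e' := fun i => by
    refine ⟨?_, hfw.rr _ _⟩
    rw [he, hfw.lr, if_neg (hne i)]
  obtain ⟨J, hJO, hJ3, hJp, hM⟩ := exists_mid (q := res Q e e') h2 hnd hd3 (e := ⟨_, hw4⟩) (f := ⟨_, hw4'⟩)
    (hfw.sl _) (hfw.sr _) (by
      have h1 : polar Q (w (Fin.last 3)) (w' (Fin.last 3)) = 1 := by rw [hfw.lr, if_pos rfl]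
      exact h1) (p := p) (by omega)
  -- the cubic part
  obtain ⟨c, hc, h6, -, hsq⟩ := H538.TC.exists_class_all (F := F) (by omega)
  obtain ⟨X₀, hX₀⟩ : ∃ X₀ : GL (Fin 3) F, X₀ = (c : GL (Fin 3) F) := ⟨_, rfl⟩
  have hX₀c : (X₀ : Matrix (Fin 3) (Fin 3) F) = (c : Matrix (Fin 3) (Fin 3) F) := by rw [hX₀]; rfl
  have hdeg : (c : Matrix (Fin 3) (Fin 3) F).charpoly.natDegree = 3 := by
    rw [Matrix.charpoly_natDegree_eq_dim]; rfl
  have hcop : IsCoprime (c : Matrix (Fin 3) (Fin 3) F).charpoly (c : Matrix (Fin 3) (Fin 3) F).charpoly.reverse := by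
    have h0 : (c : Matrix (Fin 3) (Fin 3) F).charpoly.coeff 0 = -1 := by
      have h1 := det_eq_sign_charpoly_coeff (c : Matrix (Fin 3) (Fin 3) F)
      rw [c.2, Fintype.card_fin] at h1
      linear_combination h1
    have h1 := H538.TC.eq_cu (Matrix.charpoly_monic _) hdeg h0
    rw [h1] at hc ⊢
    exact H140.TL.cu_cop hc
  have hCop : Cop X₀ J := by
    apply cop_unip hJ3
    · rw [hX₀c]
      exact eval_ne_zero hc (by rw [hdeg]; norm_num) 1
    · rw [hX₀c]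
      exact hcop
  obtain ⟨ν, hν⟩ : ∃ ν : F, ¬ IsSquare ν := FiniteField.exists_nonsquare (by
    intro h
    exact h2 (by have := ringChar.spec F 2; exact (this.2 (by rw [h])).symm ▸ (this.2 (by rw [h]))))
  obtain ⟨T, hT, hTd⟩ := H140.TL.exists_scalar (n := 3) ⟨1, rfl⟩ hν (X₀ : Matrix (Fin 3) (Fin 3) F)
  have hT' : T * X₀ = X₀ * T := Units.ext hT
  have htw := H140.TL.twoOf_three h2 hQ (by rw [hd]; decide) (k := 1) le_rfl (fun _ => by omega) hW
    (by omega) hf (X₀ := X₀) (Y₀ := X₀) (fun A hA hAns => by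
      obtain ⟨a, b, hab⟩ := hsq ⟨A, hA⟩ hAns
      refine ⟨(a : GL (Fin 3) F), (b : GL (Fin 3) F), ?_⟩
      rw [hX₀, ← map_inv, ← map_inv, ← map_mul, ← map_mul, ← map_mul, ← map_mul, ← map_mul, ← hab]
      exact Units.ext rfl) hJO hJO hM hCop hCop hT' hTd hT' hTd
  -- orders
  have hcs : c ^ orderOf c = 1 := pow_orderOf_eq_one c
  have hXs : X₀ ^ orderOf c = 1 := by
    rw [hX₀, ← map_pow, hcs, map_one]
  have hN : (orderOf c * p).Coprime 6 := by
    refine Nat.Coprime.mul_left h6 ?_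
    have h3 : ¬ p ∣ 6 := by
      intro h
      have h4 : p ∣ 2 * 3 := h
      rcases (Nat.Prime.dvd_mul hpp).1 h4 with h5 | h5
      · have := Nat.le_of_dvd (by norm_num) h5; omega
      · have := Nat.le_of_dvd (by norm_num) h5; omega
    exact (Nat.Prime.coprime_iff_not_dvd hpp).2 h3
  have hlev : (lev X₀ J) ^ (orderOf c * p) = 1 := by
    rw [lev_pow, pow_mul, hXs, one_pow, mul_comm, pow_mul, hJp, one_pow, lev_one]
  have hx : ((autE hf.toModel).symm (lev X₀ J)) ^ (orderOf c * p) = 1 := by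
    rw [← map_pow, hlev, map_one]
  have hMQ : ∀ v, MQ 3 (res Q e e') (hf.toModel v) = Q v := hf.MQ_toModel
  have hxO : (autE hf.toModel).symm (lev X₀ J) ∈ O Q := by
    rw [← autE_mem_O hMQ, MulEquiv.apply_symm_apply]
    exact lev_mem hJO
  have hodd : Odd (orderOf c * p) := by
    rw [← Nat.not_even_iff_odd, even_iff_two_dvd]
    intro h
    have := Nat.dvd_gcd h (show 2 ∣ 6 by norm_num)
    rw [hN] at this
    omega
  have hxOm : (autE hf.toModel).symm (lev X₀ J) ∈ Om Q :=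
    mem_Om_of_pow (good_of_finite hQ (by omega)) hxO hodd hx
  exact ⟨orderOf c * p, hN, _, hxOm, _, hxOm, hx, hx, htw⟩

/-- **Row of S2464**: `Ω_9(q)`, `q` a power of a prime `p ≥ 5`. -/
theorem t6_omega_nine {F : Type*} [Field F] [Fintype F] {p : ℕ} [CharP F p] (hp : 5 ≤ p) :
    H777.T6.T6 (Cfsg.POmega F (Cfsg.quadFormOdd 4 F)) := by
  have h2 : (2 : F) ≠ 0 := by
    intro h
    have h1 := (CharP.cast_eq_zero_iff F p 2).1 (by exact_mod_cast h)
    have := Nat.le_of_dvd (by norm_num) h1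
    omega
  have h4 : Two6 (oddForm 4 F) := two6_nine (nondeg_oddForm 4 F h2) hp (by
    rw [Module.finrank_fintype_fun_eq_card]; simp) (H295.War.witt_odd 4)
  have h5 := t6_of_two6 (oddForm 4 F) h4
  rw [coe_oddForm] at h5
  exact h5

end Cfsg.Agent.H295.T6
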