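import Cfsg.Agent.H141.SpinLev
import Cfsg.Agent.ClassicalGeometry.WittQuad

/-!
# S2464, `Ω_9(q)`: products of two regular unipotent elements in `SO_3(q)`

* `so3_factor` : `z ∈ O_3(q)`, `det z = 1`, spinor norm `1`, `z ≠ 1`: `z` is a product of two `O_3(q)`-conjugates of
  the regular unipotent element `J = r_{v+f} r_v`.
-/

set_option autoImplicit false
set_option linter.unusedSectionVars false
set_option linter.unusedSimpArgs false
set_option linter.unusedVariables false

namespace Cfsg.Agent.H295.T6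

open QuadraticMap Cfsg.Agent.LieClassical.OrthCore Cfsg.Agent.LieClassical.OrthTrans
  Cfsg.Agent.H160.QSpin Cfsg.Agent.H141.SpinFacts

variable {F W : Type*} [Field F] [AddCommGroup W] [Module F W] {Q : QuadraticForm F W}

/-- a hyperbolic basis of a three-dimensional orthogonal space -/
structure B3 (Q : QuadraticForm F W) (e f v : W) : Prop where
  e0 : Q e = 0
  f0 : Q f = 0
  ef : polar Q e f = 1
  ev : polar Q e v = 0
  fv : polar Q f v = 0
  v0 : Q v ≠ 0
  sp : ∀ x : W, x = polar Q x f • e + (polar Q x v * (2 * Q v)⁻¹) • v + polar Q x e • f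

theorem B3.map {e f v : W} (h : B3 Q e f v) {g : W ≃ₗ[F] W} (hg : g ∈ O Q) : B3 Q (g e) (g f) (g v) where
  e0 := by rw [mem_O.1 hg]; exact h.e0
  f0 := by rw [mem_O.1 hg]; exact h.f0
  ef := by rw [polar_map hg]; exact h.ef
  ev := by rw [polar_map hg]; exact h.ev
  fv := by rw [polar_map hg]; exact h.fv
  v0 := by rw [mem_O.1 hg]; exact h.v0
  sp := fun x => by
    obtain ⟨y, rfl⟩ := g.surjective x
    rw [polar_map hg, polar_map hg, polar_map hg, mem_O.1 hg]
    conv_lhs => rw [h.sp y]
    simp only [map_add, map_smul]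

theorem B3.ext {e f v : W} (h : B3 Q e f v) {g g' : W ≃ₗ[F] W} (he : g e = g' e) (hf : g f = g' f)
    (hv : g v = g' v) : g = g' := by
  apply LinearEquiv.ext
  intro x
  rw [h.sp x]
  simp only [map_add, map_smul, he, hf, hv]

theorem B3.polar_eq {e f v : W} (h : B3 Q e f v) (a b c a' b' c' : F) :
    polar Q (a • e + b • v + c • f) (a' • e + b' • v + c' • f) = a * c' + c * a' + 2 * Q v * b * b' := by
  have h1 : polar Q f e = 1 := by rw [polar_comm]; exact h.ef
  have h2 : polar Q v e = 0 := by rw [polar_comm]; exact h.ev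
  have h3 : polar Q v f = 0 := by rw [polar_comm]; exact h.fv
  simp only [polar_add_left, polar_add_right, polar_smul_left, polar_smul_right, polar_self', h.e0, h.f0, h.ef,
    h.ev, h.fv, h1, h2, h3, smul_eq_mul]
  ring

theorem B3.Q_eq {e f v : W} (h : B3 Q e f v) (a b c : F) :
    Q (a • e + b • v + c • f) = a * c + Q v * b ^ 2 := by
  have h3 : polar Q v f = 0 := by rw [polar_comm]; exact h.fv
  rw [Q_add, Q_add, QuadraticMap.map_smul, QuadraticMap.map_smul, QuadraticMap.map_smul]
  simp only [polar_add_left, polar_add_right, polar_smul_left, polar_smul_right, h.e0, h.f0, h.ef,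
    h.ev, h.fv, h3, smul_eq_mul]
  ring

/-- a hyperbolic pair and a third vector -/
theorem b3_of [FiniteDimensional F W] (h2 : (2 : F) ≠ 0) (hQ : Nondeg Q) (hd : Module.finrank F W = 3) {e f v : W}
    (e0 : Q e = 0) (f0 : Q f = 0) (ef : polar Q e f = 1) (ev : polar Q e v = 0) (fv : polar Q f v = 0)
    (v0 : Q v ≠ 0) : B3 Q e f v := by
  refine ⟨e0, f0, ef, ev, fv, v0, fun x => ?_⟩
  have h1 : polar Q f e = 1 := by rw [polar_comm]; exact ef
  have h2' : polar Q v e = 0 := by rw [polar_comm]; exact ev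
  have h3 : polar Q v f = 0 := by rw [polar_comm]; exact fv
  have hli : LinearIndependent F ![e, f, v] := by
    rw [Fintype.linearIndependent_iff]
    intro c hc
    rw [Fin.sum_univ_three] at hc
    simp only [Matrix.cons_val_zero, Matrix.cons_val_one, Matrix.cons_val] at hc
    have ha : c 0 = 0 := by
      have := congrArg (fun y => polar Q y f) hc
      simp only [polar_add_left, polar_smul_left, polar_self', f0, ef, h3, polar_zero_left, smul_eq_mul] at this
      linear_combination this
    have hb : c 1 = 0 := by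
      have := congrArg (fun y => polar Q y e) hc
      simp only [polar_add_left, polar_smul_left, polar_self', e0, h1, h2', polar_zero_left, smul_eq_mul] at this
      linear_combination this
    have hcc : c 2 = 0 := by
      have := congrArg (fun y => polar Q y v) hc
      simp only [polar_add_left, polar_smul_left, polar_self', ev, fv, polar_zero_left, smul_eq_mul] at this
      have h5 : c 2 * (2 * Q v) = 0 := by linear_combination this
      exact (mul_eq_zero.1 h5).resolve_right (mul_ne_zero h2 v0)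
    intro i
    fin_cases i
    · exact ha
    · exact hb
    · exact hcc
  have hspan : Submodule.span F (Set.range ![e, f, v]) = ⊤ := by
    apply Submodule.eq_top_of_finrank_eq
    rw [finrank_span_eq_card hli, hd, Fintype.card_fin]
  rw [← sub_eq_zero]
  apply hQ
  intro y
  have hy : y ∈ Submodule.span F (Set.range ![e, f, v]) := by rw [hspan]; trivial
  have h22 : (2 : F) * Q v ≠ 0 := mul_ne_zero h2 v0
  induction hy using Submodule.span_induction with
  | mem y hy =>
    obtain ⟨i, rfl⟩ := hy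
    fin_cases i
    · simp only [polar_add_left, polar_sub_left, polar_smul_left, polar_self', e0, h1, h2', smul_eq_mul,
        Matrix.cons_val_zero, Fin.zero_eta, Fin.isValue]
      ring
    · simp only [polar_add_left, polar_sub_left, polar_smul_left, polar_self', f0, ef, h3, smul_eq_mul,
        Matrix.cons_val_one, Fin.mk_one, Fin.isValue, Matrix.cons_val_zero]
      ring
    · simp only [polar_add_left, polar_sub_left, polar_smul_left, polar_self', ev, fv, smul_eq_mul,
        Matrix.cons_val, Fin.reduceFinMk, Fin.isValue]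
      field_simp
      ring
  | zero => rw [polar_zero_right]
  | add a b _ _ ha hb => rw [polar_add_right, ha, hb, add_zero]
  | smul c a _ ha => rw [polar_smul_right, ha, smul_zero]

/-- Witt's lemma for pairs -/
theorem witt_pair [FiniteDimensional F W] (hQ : Nondeg Q) {x₁ x₂ y₁ y₂ : W} (hx : LinearIndependent F ![x₁, x₂])
    (hy : LinearIndependent F ![y₁, y₂]) (h1 : Q x₁ = Q y₁) (h2 : Q x₂ = Q y₂)
    (h12 : polar Q x₁ x₂ = polar Q y₁ y₂) : ∃ g ∈ O Q, g x₁ = y₁ ∧ g x₂ = y₂ := by
  have hnd : (polarBilin Q).Nondegenerate :=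
    ⟨fun x h => hQ x h, fun y h => hQ y fun x => by rw [polar_comm]; exact h x⟩
  obtain ⟨T, hT, hT'⟩ := ClassicalGeometry.WittQuad.extend_family Q hnd 2 ![x₁, x₂] ![y₁, y₂] hx hy (fun i => by
      fin_cases i
      · exact h1
      · exact h2) (fun i j => by
      simp only [polarBilin_apply_apply]
      fin_cases i <;> fin_cases j
      · show polar Q x₁ x₁ = polar Q y₁ y₁
        rw [polar_self', polar_self', h1]
      · exact h12
      · show polar Q x₂ x₁ = polar Q y₂ y₁
        rw [polar_comm, h12, polar_comm]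
      · show polar Q x₂ x₂ = polar Q y₂ y₂
        rw [polar_self', polar_self', h2])
  exact ⟨T, hT, hT' 0, hT' 1⟩

theorem li_hyp {x y : W} (hx : Q x = 0) (hy : Q y = 0) (hxy : polar Q x y = 1) : LinearIndependent F ![x, y] := by
  rw [LinearIndependent.pair_iff]
  intro s t h
  constructor
  · have := congrArg (fun z => polar Q z y) h
    simp only [polar_add_left, polar_smul_left, polar_self', hy, hxy, polar_zero_left, smul_eq_mul] at this
    linear_combination this
  · have := congrArg (fun z => polar Q x z) h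
    simp only [polar_add_right, polar_smul_right, polar_self', hx, hxy, polar_zero_right, smul_eq_mul] at this
    linear_combination this

section Three

variable {e f v : W}

theorem B3.Q_ve (h : B3 Q e f v) (c : F) : Q (v + c • e) = Q v := by
  rw [Q_add, QuadraticMap.map_smul, polar_smul_right, polar_comm Q v e, h.ev, h.e0]
  simp

/-- an isometry fixing `e` -/
theorem B3.fix_v (h : B3 Q e f v) (h2 : (2 : F) ≠ 0) {t : W ≃ₗ[F] W} (ht : t ∈ O Q) (hte : t e = e) :
    ∃ c : F, t v = v + c • e ∨ t v = - v + c • e := by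
  have h1 := h.sp (t v)
  have h3 : polar Q (t v) e = 0 := by
    have : polar Q (t v) (t e) = 0 := by rw [polar_map ht, polar_comm]; exact h.ev
    rwa [hte] at this
  rw [h3] at h1
  set a := polar Q (t v) f with ha
  set b := polar Q (t v) v * (2 * Q v)⁻¹ with hb
  have h4 : Q (t v) = Q v := mem_O.1 ht v
  rw [h1, h.Q_eq] at h4
  have h5 : (b - 1) * (b + 1) = 0 := by
    have : Q v * ((b - 1) * (b + 1)) = 0 := by linear_combination h4
    exact (mul_eq_zero.1 this).resolve_left h.v0
  refine ⟨a, ?_⟩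
  rcases mul_eq_zero.1 h5 with h6 | h6
  · left
    have hb1 : b = 1 := by linear_combination h6
    rw [h1, hb1]; module
  · right
    have hb1 : b = -1 := by linear_combination h6
    rw [h1, hb1]; module

theorem B3.eq_refl (h : B3 Q e f v) (h2 : (2 : F) ≠ 0) {t : W ≃ₗ[F] W} (ht : t ∈ O Q) (hte : t e = e) {c : F}
    (htv : t v = - v + c • e) (hv : Q (v + (-c * (2 : F)⁻¹) • e) ≠ 0) : t = refl Q (v + (-c * (2 : F)⁻¹) • e) hv := by
  have hQv : Q (v + (-c * (2 : F)⁻¹) • e) = Q v := h.Q_ve _
  have hve : polar Q v e = 0 := by rw [polar_comm]; exact h.ev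
  have hef : polar Q f e = 1 := by rw [polar_comm]; exact h.ef
  have hvf : polar Q v f = 0 := by rw [polar_comm]; exact h.fv
  have hv0 := h.v0
  -- `t f`
  have h1 := h.sp (t f)
  have h3 : polar Q (t f) e = 1 := by
    have : polar Q (t f) (t e) = 1 := by rw [polar_map ht]; exact hef
    rwa [hte] at this
  rw [h3] at h1
  set x := polar Q (t f) f with hx
  set y := polar Q (t f) v * (2 * Q v)⁻¹ with hy
  have h5 : polar Q (t f) (t v) = 0 := by rw [polar_map ht]; exact h.fv
  have htv' : t v = c • e + (-1 : F) • v + (0 : F) • f := by rw [htv]; module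
  rw [htv', h1, h.polar_eq] at h5
  have h6 : Q (t f) = 0 := by rw [mem_O.1 ht]; exact h.f0
  rw [h1, h.Q_eq] at h6
  apply h.ext
  · rw [hte, refl_apply, hQv]
    simp only [polar_add_left, polar_smul_left, polar_self', h.e0, hve, smul_eq_mul]
    module
  · rw [refl_apply, hQv, h1]
    simp only [polar_add_left, polar_smul_left, hvf, h.ef, smul_eq_mul]
    have hy' : y = c * (2 * Q v)⁻¹ := by
      field_simp
      linear_combination -h5
    have hx' : x = - Q v * y ^ 2 := by linear_combination h6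
    rw [hx', hy']
    match_scalars
    · field_simp
      ring
    · field_simp
      ring
    · ring
  · rw [refl_apply, hQv, htv]
    simp only [polar_add_left, polar_smul_left, polar_self', h.ev, smul_eq_mul]
    match_scalars
    · field_simp
      ring
    · field_simp
      ring

theorem B3.eq_refl' (h : B3 Q e f v) [FiniteDimensional F W] (h2 : (2 : F) ≠ 0) {t : W ≃ₗ[F] W} (ht : t ∈ O Q)
    (hte : t e = e) (hdet : LinearEquiv.det t = -1) :
    ∃ c : F, ∃ hv : Q (v + c • e) ≠ 0, t = refl Q (v + c • e) hv := by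
  have hne : ∀ c : F, Q (v + c • e) ≠ 0 := fun c => by rw [h.Q_ve]; exact h.v0
  obtain ⟨c, h1 | h1⟩ := h.fix_v h2 ht hte
  · exfalso
    -- `t * refl v` is a reflection
    have h3 : (t * refl Q v h.v0) e = e := by
      show t (refl Q v h.v0 e) = e
      rw [refl_apply, polar_comm Q v e, h.ev, mul_zero, zero_smul, sub_zero, hte]
    have h4 : (t * refl Q v h.v0) v = - v + (-c) • e := by
      show t (refl Q v h.v0 v) = _
      have h5 : refl Q v h.v0 v = - v := by
        have h6 : (Q v)⁻¹ * (2 * Q v) = 2 := by have := h.v0; field_simp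
        rw [refl_apply, polar_self', h6]; module
      rw [h5, map_neg, h1]; module
    have h5 := h.eq_refl h2 ((O Q).mul_mem ht (refl_mem_O h.v0)) h3 h4 (hne _)
    have h6 := congrArg LinearEquiv.det h5
    rw [det_refl, map_mul, det_refl, hdet] at h6
    have h7 : ((-1 : Fˣ) : F) * ((-1 : Fˣ) : F) = ((-1 : Fˣ) : F) := congrArg Units.val h6
    simp only [Units.val_neg, Units.val_one] at h7
    apply h2
    linear_combination h7
  · exact ⟨-c * (2 : F)⁻¹, hne _, h.eq_refl h2 ht hte h1 (hne _)⟩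

/-- a singular vector not mapped into its orthogonal space -/
theorem B3.exists_sing (h : B3 Q e f v) (h2 : (2 : F) ≠ 0) (hd : Module.finrank F W = 3) {z : W ≃ₗ[F] W}
    (hz : z ∈ O Q) (hdet : LinearEquiv.det z = 1) (hz1 : z ≠ 1) : ∃ x, Q x = 0 ∧ polar Q (z x) x ≠ 0 := by
  by_contra hcon
  push Not at hcon
  have hv0 := h.v0
  have hef : polar Q f e = 1 := by rw [polar_comm]; exact h.ef
  have hve : polar Q v e = 0 := by rw [polar_comm]; exact h.ev
  have hvf : polar Q v f = 0 := by rw [polar_comm]; exact h.fv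
  -- `z e = α e`
  have he1 : z e = polar Q (z e) f • e := by
    have h1 := h.sp (z e)
    rw [hcon e h.e0] at h1
    have h3 : Q (z e) = 0 := by rw [mem_O.1 hz]; exact h.e0
    rw [h1, h.Q_eq] at h3
    have h4 : polar Q (z e) v * (2 * Q v)⁻¹ = 0 := by
      have : Q v * (polar Q (z e) v * (2 * Q v)⁻¹) ^ 2 = 0 := by linear_combination h3
      exact pow_eq_zero_iff (two_ne_zero) |>.1 ((mul_eq_zero.1 this).resolve_left hv0)
    rw [h4] at h1
    conv_lhs => rw [h1]
    module
  have hf1 : z f = polar Q (z f) e • f := by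
    have h1 := h.sp (z f)
    rw [hcon f h.f0] at h1
    have h3 : Q (z f) = 0 := by rw [mem_O.1 hz]; exact h.f0
    rw [h1, h.Q_eq] at h3
    have h4 : polar Q (z f) v * (2 * Q v)⁻¹ = 0 := by
      have : Q v * (polar Q (z f) v * (2 * Q v)⁻¹) ^ 2 = 0 := by linear_combination h3
      exact pow_eq_zero_iff (two_ne_zero) |>.1 ((mul_eq_zero.1 this).resolve_left hv0)
    rw [h4] at h1
    conv_lhs => rw [h1]
    module
  set α := polar Q (z e) f with hα
  set δ := polar Q (z f) e with hδ
  have hαδ : α * δ = 1 := by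
    have h1 : polar Q (z e) (z f) = 1 := by rw [polar_map hz]; exact h.ef
    rw [he1, hf1, polar_smul_left, polar_smul_right, h.ef] at h1
    simpa using h1
  have hα0 : α ≠ 0 := left_ne_zero_of_mul_eq_one hαδ
  have hδ0 : δ ≠ 0 := right_ne_zero_of_mul_eq_one hαδ
  have hzv : z v = (polar Q (z v) v * (2 * Q v)⁻¹) • v := by
    have h1 := h.sp (z v)
    have h3 : polar Q (z v) e = 0 := by
      have h4 : polar Q (z v) (z e) = 0 := by rw [polar_map hz]; exact hve
      rw [he1, polar_smul_right, smul_eq_mul] at h4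
      exact (mul_eq_zero.1 h4).resolve_left hα0
    have h5 : polar Q (z v) f = 0 := by
      have h4 : polar Q (z v) (z f) = 0 := by rw [polar_map hz]; exact hvf
      rw [hf1, polar_smul_right, smul_eq_mul] at h4
      exact (mul_eq_zero.1 h4).resolve_left hδ0
    rw [h3, h5] at h1
    conv_lhs => rw [h1]
    module
  set ε := polar Q (z v) v * (2 * Q v)⁻¹ with hε
  have hε2 : ε * ε = 1 := by
    have h1 : Q (z v) = Q v := mem_O.1 hz v
    rw [hzv, QuadraticMap.map_smul, smul_eq_mul] at h1
    have h3 : (ε * ε - 1) * Q v = 0 := by linear_combination h1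
    have h4 := (mul_eq_zero.1 h3).resolve_right hv0
    linear_combination h4
  -- the third singular vector
  have h3 := hcon ((1 : F) • e + (1 : F) • v + (- Q v) • f) (by rw [h.Q_eq]; ring)
  have h4 : z ((1 : F) • e + (1 : F) • v + (- Q v) • f) = α • e + ε • v + (- Q v * δ) • f := by
    rw [map_add, map_add, map_smul, map_smul, map_smul, he1, hzv, hf1]
    module
  rw [h4, h.polar_eq] at h3
  have h5 : α + δ = 2 * ε := by
    have : Q v * (α + δ - 2 * ε) = 0 := by linear_combination -h3
    have := (mul_eq_zero.1 this).resolve_left hv0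
    linear_combination this
  have h6 : (α - ε) ^ 2 = 0 := by linear_combination α * h5 + hε2 - hαδ
  have h7 : α = ε := by
    have := pow_eq_zero_iff (two_ne_zero) |>.1 h6
    linear_combination this
  have h8 : δ = ε := by linear_combination h5 - h7
  have h9 : ∀ x, z x = ε • x := by
    intro x
    rw [h.sp x]
    simp only [map_add, map_smul, he1, hf1, hzv, h7, h8]
    module
  have h10 : (z : W →ₗ[F] W) = ε • LinearMap.id := by
    apply LinearMap.ext
    intro x
    rw [LinearMap.smul_apply, LinearMap.id_apply]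
    exact h9 x
  have h11 : LinearMap.det (z : W →ₗ[F] W) = 1 := by
    rw [← LinearEquiv.coe_det, hdet, Units.val_one]
  rw [h10, LinearMap.det_smul, LinearMap.det_id, hd] at h11
  have h12 : ε = 1 := by linear_combination h11 - ε * hε2
  apply hz1
  apply LinearEquiv.ext
  intro x
  rw [h9, h12, one_smul]
  rfl

theorem li_pair {a m : W} (h2 : (2 : F) ≠ 0) (hm : Q m ≠ 0) (h : polar Q a m = 2 * Q m) (hne : a ≠ m) :
    LinearIndependent F ![m, a] := by
  rw [LinearIndependent.pair_iff]
  intro s t h1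
  have h3 := congrArg (fun z => polar Q z m) h1
  simp only [polar_add_left, polar_smul_left, polar_self', h, polar_zero_left, smul_eq_mul] at h3
  have h4 : s + t = 0 := by
    have : (2 * Q m) * (s + t) = 0 := by linear_combination h3
    exact (mul_eq_zero.1 this).resolve_left (mul_ne_zero h2 hm)
  have h5 : s = -t := by linear_combination h4
  have h6 : t • (a - m) = 0 := by
    rw [← h1, h5]; module
  have h7 : t = 0 := (smul_eq_zero.1 h6).resolve_right (sub_ne_zero.2 hne)
  exact ⟨by rw [h5, h7, neg_zero], h7⟩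

/-- the regular unipotent elements are conjugate -/
theorem B3.conj_unip [FiniteDimensional F W] (h : B3 Q e f v) (h2 : (2 : F) ≠ 0) (hQ : Nondeg Q)
    (hvf : Q (v + f) ≠ 0) {a m : W} (ha : Q a ≠ 0) (hm : Q m ≠ 0) (ha' : Q a = Q v) (hm' : Q m = Q v)
    (ham : polar Q a m = 2 * Q v) (hne : a ≠ m) :
    ∃ T ∈ O Q, refl Q a ha * refl Q m hm = T * (refl Q (v + f) hvf * refl Q v h.v0) * T⁻¹ := by
  have hvf0 : polar Q v f = 0 := by rw [polar_comm]; exact h.fv
  have hQvf : Q (v + f) = Q v := by rw [Q_add, h.f0, hvf0, add_zero, add_zero]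
  have hp : polar Q (v + f) v = 2 * Q v := by rw [polar_add_left, polar_self', h.fv, add_zero]
  have hf0 : f ≠ 0 := by
    rintro rfl
    have := h.ef
    rw [polar_zero_right] at this
    exact zero_ne_one this
  obtain ⟨T, hT, h3, h4⟩ := witt_pair hQ (x₁ := v) (x₂ := v + f) (y₁ := m) (y₂ := a)
    (li_pair h2 h.v0 hp (fun h5 => hf0 (by simpa using h5))) (li_pair h2 hm (by rw [ham, hm']) hne) hm'.symm
    (by rw [hQvf, ha']) (by rw [polar_comm, hp, polar_comm Q m a, ham])
  refine ⟨T, hT, ?_⟩
  have e1 : T * refl Q (v + f) hvf * T⁻¹ = refl Q a ha := by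
    have h5 : Q (T (v + f)) ≠ 0 := by rw [h4]; exact ha
    rw [refl_conj hT hvf h5]
    congr 1
  have e2 : T * refl Q v h.v0 * T⁻¹ = refl Q m hm := by
    have h5 : Q (T v) ≠ 0 := by rw [h3]; exact hm
    rw [refl_conj hT h.v0 h5]
    congr 1
  rw [← e1, ← e2]
  group

theorem B3.factor_aux [Finite F] [FiniteDimensional F W] [Finite W] (h : B3 Q e f v) (h2 : (2 : F) ≠ 0)
    {z : W ≃ₗ[F] W} (hz : z ∈ O Q) (hdet : LinearEquiv.det z = 1) (hs : spin Q ⟨z, hz⟩ = 1) {γ : F} (hγ : γ ≠ 0)
    (hze : z e = γ • f) :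
    ∃ a m b : W, ∃ ha : Q a ≠ 0, ∃ hm : Q m ≠ 0, ∃ hb : Q b ≠ 0, Q a = Q v ∧ Q m = Q v ∧ Q b = Q v ∧
      polar Q a m = 2 * Q v ∧ polar Q m b = 2 * Q v ∧ a ≠ m ∧ m ≠ b ∧ z = refl Q a ha * refl Q b hb := by
  have hv0 := h.v0
  have hfe : polar Q f e = 1 := by rw [polar_comm]; exact h.ef
  have hve : polar Q v e = 0 := by rw [polar_comm]; exact h.ev
  have hQw : Q (γ • f - e) = - γ := by
    have : γ • f - e = (-1 : F) • e + (0 : F) • v + γ • f := by module
    rw [this, h.Q_eq]; ring
  have hw : Q (γ • f - e) ≠ 0 := by rw [hQw]; exact neg_ne_zero.2 hγ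
  have h3 : refl Q (γ • f - e) hw (γ • f) = e := refl_sub_apply (by
    rw [h.e0, QuadraticMap.map_smul, h.f0, smul_zero]) hw
  have hte : (refl Q (γ • f - e) hw * z) e = e := by
    show refl Q (γ • f - e) hw (z e) = e
    rw [hze, h3]
  have htO : refl Q (γ • f - e) hw * z ∈ O Q := (O Q).mul_mem (refl_mem_O hw) hz
  obtain ⟨c, hb, htr⟩ := h.eq_refl' h2 htO hte (by rw [map_mul, det_refl, hdet, mul_one])
  have hQb : Q (v + c • e) = Q v := h.Q_ve c
  have hzr : z = refl Q (γ • f - e) hw * refl Q (v + c • e) hb := by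
    rw [← htr, ← mul_assoc, refl_mul_self, one_mul]
  -- the spinor norm
  have hchi : chi (-γ * Q v) = 1 := by
    have e1 : (⟨z, hz⟩ : O Q) = ⟨refl Q (γ • f - e) hw, refl_mem_O hw⟩ * ⟨refl Q (v + c • e) hb, refl_mem_O hb⟩ :=
      Subtype.ext hzr
    rw [e1, map_mul, spin_refl' h2, spin_refl' h2, hQw, hQb, neg_mul_neg,
      ← chi_mul (neg_ne_zero.2 hγ) hv0] at hs
    exact hs
  obtain ⟨s, hs2⟩ := (chi_eq_one_iff _).1 hchi
  -- choose the sign of `s`
  obtain ⟨s, hs2, hsc⟩ : ∃ s : F, -γ * Q v = s * s ∧ 2 * s * γ⁻¹ ≠ c := by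
    by_cases hc : 2 * s * γ⁻¹ = c
    · refine ⟨-s, by rw [hs2]; ring, fun h5 => ?_⟩
      have h6 : (2 * 2) * s * γ⁻¹ = 0 := by linear_combination hc - h5
      have hs0 : s ≠ 0 := by
        rintro rfl
        rw [mul_zero] at hs2
        exact mul_ne_zero (neg_ne_zero.2 hγ) hv0 hs2
      exact mul_ne_zero (mul_ne_zero (mul_ne_zero h2 h2) hs0) (inv_ne_zero hγ) h6
    · exact ⟨s, hs2, hc⟩
  have hs0 : s ≠ 0 := by
    rintro rfl
    rw [mul_zero] at hs2
    exact mul_ne_zero (neg_ne_zero.2 hγ) hv0 hs2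
  have hlam : Q v * s⁻¹ ≠ 0 := mul_ne_zero hv0 (inv_ne_zero hs0)
  have hss : s⁻¹ * s = 1 := inv_mul_cancel₀ hs0
  have hQa : Q ((Q v * s⁻¹) • (γ • f - e)) = Q v := by
    rw [QuadraticMap.map_smul, hQw, smul_eq_mul]
    linear_combination (Q v * s⁻¹ * s⁻¹) * hs2 + (Q v * (s⁻¹ * s) + Q v) * hss
  have ha : Q ((Q v * s⁻¹) • (γ • f - e)) ≠ 0 := by rw [hQa]; exact hv0
  have hQm : Q (v + (2 * s * γ⁻¹) • e) = Q v := h.Q_ve _
  have hm : Q (v + (2 * s * γ⁻¹) • e) ≠ 0 := by rw [hQm]; exact hv0
  have he0 : e ≠ 0 := by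
    rintro rfl
    have := h.ef
    rw [polar_zero_left] at this
    exact zero_ne_one this
  refine ⟨(Q v * s⁻¹) • (γ • f - e), v + (2 * s * γ⁻¹) • e, v + c • e, ha, hm, hb, hQa, hQm, hQb, ?_, ?_, ?_, ?_, ?_⟩
  · have e1 : (Q v * s⁻¹) • (γ • f - e) = (-(Q v * s⁻¹)) • e + (0 : F) • v + (Q v * s⁻¹ * γ) • f := by module
    have e2 : v + (2 * s * γ⁻¹) • e = (2 * s * γ⁻¹) • e + (1 : F) • v + (0 : F) • f := by module
    rw [e1, e2, h.polar_eq]
    field_simp
    ring
  · have e1 : v + (2 * s * γ⁻¹) • e = (2 * s * γ⁻¹) • e + (1 : F) • v + (0 : F) • f := by module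
    have e2 : v + c • e = c • e + (1 : F) • v + (0 : F) • f := by module
    rw [e1, e2, h.polar_eq]
    ring
  · intro h5
    have h6 := congrArg (fun y => polar Q y e) h5
    have e1 : (Q v * s⁻¹) • (γ • f - e) = (-(Q v * s⁻¹)) • e + (0 : F) • v + (Q v * s⁻¹ * γ) • f := by module
    have e2 : v + (2 * s * γ⁻¹) • e = (2 * s * γ⁻¹) • e + (1 : F) • v + (0 : F) • f := by module
    have e3 : e = (1 : F) • e + (0 : F) • v + (0 : F) • f := by module
    have h7 : polar Q ((-(Q v * s⁻¹)) • e + (0 : F) • v + (Q v * s⁻¹ * γ) • f)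
        ((1 : F) • e + (0 : F) • v + (0 : F) • f) =
        polar Q ((2 * s * γ⁻¹) • e + (1 : F) • v + (0 : F) • f) ((1 : F) • e + (0 : F) • v + (0 : F) • f) := by
      rw [← e1, ← e2, ← e3]; exact h6
    rw [h.polar_eq, h.polar_eq] at h7
    have h8 : Q v * s⁻¹ * γ = 0 := by linear_combination h7
    exact mul_ne_zero hlam hγ h8
  · intro h5
    have h6 : (2 * s * γ⁻¹ - c) • e = 0 := by
      have h7 : (2 * s * γ⁻¹) • e = c • e := add_left_cancel h5
      rw [sub_smul, h7, sub_self]
    exact hsc (sub_eq_zero.1 ((smul_eq_zero.1 h6).resolve_right he0))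
  · rw [refl_smul hw hlam ha]
    exact hzr

/-- **`SO_3(q)`**: every nontrivial element of `Ω_3(q)` is a product of two regular unipotent elements. -/
theorem so3_factor [Finite F] [FiniteDimensional F W] [Finite W] (h : B3 Q e f v) (h2 : (2 : F) ≠ 0) (hQ : Nondeg Q)
    (hd : Module.finrank F W = 3) (hvf : Q (v + f) ≠ 0) {z : W ≃ₗ[F] W} (hz : z ∈ O Q)
    (hdet : LinearEquiv.det z = 1) (hs : spin Q ⟨z, hz⟩ = 1) (hz1 : z ≠ 1) :
    ∃ p ∈ O Q, ∃ r ∈ O Q, z = (p * (refl Q (v + f) hvf * refl Q v h.v0) * p⁻¹) *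
      (r * (refl Q (v + f) hvf * refl Q v h.v0) * r⁻¹) := by
  obtain ⟨x, hx0, hx⟩ := h.exists_sing h2 hd hz hdet hz1
  set γ := polar Q (z x) x with hγ
  have hzx0 : Q (z x) = 0 := by rw [mem_O.1 hz]; exact hx0
  have hy0 : Q (γ⁻¹ • z x) = 0 := by rw [QuadraticMap.map_smul, hzx0, smul_zero]
  have hxy : polar Q x (γ⁻¹ • z x) = 1 := by
    rw [polar_smul_right, polar_comm, ← hγ, smul_eq_mul, inv_mul_cancel₀ hx]
  obtain ⟨g, hg, hge, hgf⟩ := witt_pair hQ (li_hyp h.e0 h.f0 h.ef) (li_hyp hx0 hy0 hxy) (by rw [h.e0, hx0])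
    (by rw [h.f0, hy0]) (by rw [h.ef, hxy])
  have h' := h.map hg
  have hze : z (g e) = γ • g f := by
    rw [hge, hgf, smul_smul, mul_inv_cancel₀ hx, one_smul]
  obtain ⟨a, m, b, ha, hm, hb, ha', hm', hb', ham, hmb, hne, hne', hzr⟩ := h'.factor_aux h2 hz hdet hs hx hze
  have hgv : Q (g v) = Q v := mem_O.1 hg v
  rw [hgv] at ha' hm' hb' ham hmb
  obtain ⟨p, hp, e1⟩ := h.conj_unip h2 hQ hvf ha hm ha' hm' ham hne
  obtain ⟨r, hr, e2⟩ := h.conj_unip h2 hQ hvf hm hb hm' hb' hmb hne'
  refine ⟨p, hp, r, hr, ?_⟩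
  rw [← e1, ← e2, hzr, mul_assoc, ← mul_assoc (refl Q m hm), refl_mul_self, one_mul]

/-- the regular unipotent element is unipotent -/
theorem B3.unip (h : B3 Q e f v) (hvf : Q (v + f) ≠ 0) :
    (((refl Q (v + f) hvf * refl Q v h.v0 : W ≃ₗ[F] W) : Module.End F W) - 1) ^ 3 = 0 := by
  have hv0 := h.v0
  have hfe : polar Q f e = 1 := by rw [polar_comm]; exact h.ef
  have hve : polar Q v e = 0 := by rw [polar_comm]; exact h.ev
  have hvf0 : polar Q v f = 0 := by rw [polar_comm]; exact h.fv
  have hQvf : Q (v + f) = Q v := by rw [Q_add, h.f0, hvf0, add_zero, add_zero]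
  set J : W ≃ₗ[F] W := refl Q (v + f) hvf * refl Q v h.v0 with hJ
  have hJa : ∀ x, J x = refl Q (v + f) hvf (refl Q v h.v0 x) := fun x => rfl
  have k1 : J f = f := by
    rw [hJa, refl_apply, refl_apply, hvf0, mul_zero, zero_smul, sub_zero, polar_add_left, hvf0, polar_self', h.f0]
    module
  have k2 : J v = v + (2 : F) • f := by
    have h6 : (Q v)⁻¹ * (2 * Q v) = 2 := by field_simp
    have h5 : refl Q v h.v0 v = - v := by
      rw [refl_apply, polar_self', h6]; module
    have h7 : refl Q (v + f) hvf v = v - (2 : F) • (v + f) := by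
      rw [refl_apply, hQvf, polar_add_left, polar_self', h.fv, add_zero, h6]
    rw [hJa, h5, map_neg, h7]; module
  have k3 : J e = e - (Q v)⁻¹ • (v + f) := by
    rw [hJa, refl_apply hv0, hve, mul_zero, zero_smul, sub_zero, refl_apply, hQvf, polar_add_left, hve, hfe, zero_add,
      mul_one]
  obtain ⟨N, hN⟩ : ∃ N : Module.End F W, N = (J : Module.End F W) - 1 := ⟨_, rfl⟩
  have n0 : ∀ x, N x = J x - x := fun x => by rw [hN]; rfl
  have n1 : N f = 0 := by rw [n0, k1, sub_self]
  have n2 : N v = (2 : F) • f := by rw [n0, k2]; module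
  have n3 : N e = -((Q v)⁻¹ • (v + f)) := by rw [n0, k3]; module
  rw [← hN]
  apply LinearMap.ext
  intro x
  rw [h.sp x]
  have e1 : ∀ y, (N ^ 3) y = N (N (N y)) := fun y => rfl
  simp only [map_add, map_smul, e1, n1, n2, n3, map_neg, map_zero, smul_zero, neg_zero, add_zero,
    LinearMap.zero_apply]

theorem B3.unip_pow (h : B3 Q e f v) (hvf : Q (v + f) ≠ 0) {p : ℕ} [CharP F p] [Fact p.Prime] (hp : 3 ≤ p) :
    (refl Q (v + f) hvf * refl Q v h.v0) ^ p = 1 := by
  have h1 := h.unip hvf
  set J : W ≃ₗ[F] W := refl Q (v + f) hvf * refl Q v h.v0 with hJ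
  have h3 : (((J : Module.End F W) - 1)) ^ p = 0 := by
    obtain ⟨k, rfl⟩ := Nat.exists_eq_add_of_le hp
    rw [pow_add, h1, zero_mul]
  have : Nontrivial W := ⟨⟨e, 0, by
    rintro rfl
    have := h.ef
    rw [polar_zero_left] at this
    exact zero_ne_one this⟩⟩
  have hc : CharP (Module.End F W) p := by
    apply charP_of_injective_algebraMap (algebraMap F (Module.End F W)).injective
  have h4 : ((J : Module.End F W) - 1) ^ p = (J : Module.End F W) ^ p - 1 ^ p :=
    sub_pow_char_of_commute _ (Commute.one_right _)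
  rw [h3, one_pow] at h4
  have h5 : (J : Module.End F W) ^ p = 1 := (sub_eq_zero.1 h4.symm)
  apply LinearEquiv.ext
  intro x
  have h6 : ∀ n : ℕ, ((J ^ n : W ≃ₗ[F] W) : Module.End F W) = (J : Module.End F W) ^ n := by
    intro n
    induction n with
    | zero => rfl
    | succ n ih => rw [pow_succ, pow_succ, ← ih]; rfl
  have h7 := h6 p
  rw [h5] at h7
  exact LinearMap.congr_fun h7 x

/-- a third vector exists -/
theorem exists_b3 [FiniteDimensional F W] (h2 : (2 : F) ≠ 0) (hQ : Nondeg Q) (hd : Module.finrank F W = 3)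
    (e0 : Q e = 0) (f0 : Q f = 0) (ef : polar Q e f = 1) : ∃ v, B3 Q e f v := by
  have hfe : polar Q f e = 1 := by rw [polar_comm]; exact ef
  have hli := li_hyp e0 f0 ef
  have hlt : Submodule.span F (Set.range ![e, f]) ≠ ⊤ := by
    intro h
    have h1 := finrank_span_eq_card hli
    rw [h, finrank_top, hd, Fintype.card_fin] at h1
    omega
  obtain ⟨x, hx⟩ : ∃ x, x ∉ Submodule.span F (Set.range ![e, f]) := by
    by_contra hcon
    push Not at hcon
    exact hlt (Submodule.eq_top_iff'.2 hcon)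
  set v := x - polar Q x f • e - polar Q x e • f with hv
  have he' : e ∈ Submodule.span F (Set.range ![e, f]) := Submodule.subset_span ⟨0, rfl⟩
  have hf' : f ∈ Submodule.span F (Set.range ![e, f]) := Submodule.subset_span ⟨1, rfl⟩
  have hv0 : v ∉ Submodule.span F (Set.range ![e, f]) := by
    intro h
    apply hx
    have : x = v + polar Q x f • e + polar Q x e • f := by rw [hv]; module
    rw [this]
    exact Submodule.add_mem _ (Submodule.add_mem _ h (Submodule.smul_mem _ _ he')) (Submodule.smul_mem _ _ hf')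
  have hev : polar Q e v = 0 := by
    rw [hv, polar_sub_right, polar_sub_right, polar_smul_right, polar_smul_right, polar_self', e0, ef, polar_comm Q e x]
    simp
  have hfv : polar Q f v = 0 := by
    rw [hv, polar_sub_right, polar_sub_right, polar_smul_right, polar_smul_right, polar_self', f0, hfe,
      polar_comm Q f x]
    simp
  have hQv : Q v ≠ 0 := by
    intro h0
    have hve : polar Q v e = 0 := by rw [polar_comm]; exact hev
    have hvf : polar Q v f = 0 := by rw [polar_comm]; exact hfv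
    have hli3 : LinearIndependent F (Fin.snoc (α := fun _ => W) ![e, f] v : Fin 3 → W) := by
      rw [linearIndependent_finSnoc]
      exact ⟨hli, hv0⟩
    have hspan : Submodule.span F (Set.range (Fin.snoc (α := fun _ => W) ![e, f] v : Fin 3 → W)) = ⊤ := by
      apply Submodule.eq_top_of_finrank_eq
      rw [finrank_span_eq_card hli3, hd, Fintype.card_fin]
    have hv00 : v = 0 := by
      apply hQ
      intro y
      have hy : y ∈ Submodule.span F (Set.range (Fin.snoc (α := fun _ => W) ![e, f] v : Fin 3 → W)) := by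
        rw [hspan]; trivial
      induction hy using Submodule.span_induction with
      | mem y hy =>
        obtain ⟨i, rfl⟩ := hy
        fin_cases i
        · exact hve
        · exact hvf
        · show polar Q v v = 0
          rw [polar_self', h0, mul_zero]
      | zero => rw [polar_zero_right]
      | add a b _ _ ha hb => rw [polar_add_right, ha, hb, add_zero]
      | smul c a _ ha => rw [polar_smul_right, ha, smul_zero]
    apply hv0
    rw [hv00]
    exact Submodule.zero_mem _
  exact ⟨v, b3_of h2 hQ hd e0 f0 ef hev hfv hQv⟩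

end Three

end Cfsg.Agent.H295.T6
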